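import Groth.Agent.FlatMisc.ValuationFP
import Groth.Agent.RegLoc6.Serre
import Mathlib

/-!
# Projective dimension over local rings flat over valuation rings with regular fibre
-/

set_option autoImplicit false
set_option linter.style.haveILetI false
set_option linter.unusedSectionVars false

universe u

open TensorProduct IsLocalRing

namespace Groth.Agent.ValRegFib

open RegLoc6

variable {V : Type u} [CommRing V] [IsDomain V] [ValuationRing V]
variable {A : Type u} [CommRing A] [Algebra V A]

/-- Submodules of finite free modules with torsion-free quotient are finitely generated. -/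
def SatFG (V A : Type u) [CommRing V] [CommRing A] [Algebra V A] : Prop :=
  ∀ (m : ℕ) (N : Submodule A (Fin m → A)),
    (∀ (c : V) (v : Fin m → A), c ≠ 0 → c • v ∈ N → v ∈ N) → N.FG

theorem satFG_of_polynomial {n : ℕ} (ι : MvPolynomial (Fin n) V →ₐ[V] A)
    (hden : ∀ (m : ℕ) (x : Fin m → A), ∃ u : A, IsUnit u ∧ ∀ i, u * x i ∈ ι.range) :
    SatFG V A := by
  classical
  intro m N hN
  letI : Algebra (MvPolynomial (Fin n) V) A := ι.toRingHom.toAlgebra
  haveI : IsScalarTower V (MvPolynomial (Fin n) V) A := IsScalarTower.of_algHom ι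
  let J : (Fin m → MvPolynomial (Fin n) V) →ₗ[MvPolynomial (Fin n) V] (Fin m → A) :=
    LinearMap.pi fun i => Algebra.linearMap (MvPolynomial (Fin n) V) A ∘ₗ LinearMap.proj i
  let N' := (N.restrictScalars (MvPolynomial (Fin n) V)).comap J
  have hfg : N'.FG := FlatMisc.ValuationFP.fg_of_saturated N' fun c v hc hcv => by
    refine hN c (J v) hc ?_
    rw [← LinearMap.map_smul_of_tower J c v]
    exact hcv
  obtain ⟨s, hs⟩ := hfg
  refine ⟨s.image J, le_antisymm (Submodule.span_le.mpr ?_) ?_⟩
  · intro w hw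
    obtain ⟨v, hv, rfl⟩ := Finset.mem_image.mp (Finset.mem_coe.mp hw)
    exact (hs ▸ Submodule.subset_span hv : v ∈ N')
  · intro x hx
    obtain ⟨u, hu, hux⟩ := hden m x
    choose v hv using fun i => hux i
    have hJv : J v = u • x := funext hv
    have hvN : v ∈ N' := show J v ∈ N from hJv ▸ N.smul_mem u hx
    rw [← hs] at hvN
    have h : ∀ w ∈ Submodule.span (MvPolynomial (Fin n) V) (s : Set (Fin m → MvPolynomial (Fin n) V)),
        J w ∈ Submodule.span A ((s.image J : Finset _) : Set (Fin m → A)) := by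
      intro w hw
      induction hw using Submodule.span_induction with
      | mem w hw => exact Submodule.subset_span (Finset.mem_coe.mpr (Finset.mem_image_of_mem _ hw))
      | zero => rw [map_zero]; exact Submodule.zero_mem _
      | add a b _ _ ha hb => rw [map_add]; exact Submodule.add_mem _ ha hb
      | smul r a _ ha =>
        rw [map_smul, ← IsScalarTower.algebraMap_smul A r (J a)]
        exact Submodule.smul_mem _ _ ha
    obtain ⟨u, rfl⟩ := hu
    have h2 := h v hvN
    rw [hJv] at h2
    simpa [smul_smul] using Submodule.smul_mem _ ((u⁻¹ : Aˣ) : A) h2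

omit [IsDomain V] [ValuationRing V] in
theorem fg_ker_of_torsionFree (hA : SatFG V A) {m : ℕ} {M : Type u} [AddCommGroup M] [Module A M]
    (π : (Fin m → A) →ₗ[A] M)
    (hM : ∀ (c : V) (z : M), c ≠ 0 → algebraMap V A c • z = 0 → z = 0) :
    (LinearMap.ker π).FG :=
  hA m _ fun c v hc hcv => hM c (π v) hc (by
    rw [← map_smul, algebraMap_smul]
    exact hcv)

/-- The elements of `p M` are multiples of single elements of `p`. -/
theorem exists_smul_of_mem_map_smul_top (p : Ideal V) {F : Type u} [AddCommGroup F] [Module A F]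
    {z : F} (hz : z ∈ p.map (algebraMap V A) • (⊤ : Submodule A F)) :
    ∃ v ∈ p, ∃ f : F, z = algebraMap V A v • f := by
  let T : Submodule A F :=
    { carrier := {z | ∃ v ∈ p, ∃ f : F, z = algebraMap V A v • f}
      add_mem' := by
        rintro _ _ ⟨v, hv, f, rfl⟩ ⟨w, hw, g, rfl⟩
        rcases ValuationRing.dvd_total v w with ⟨c, rfl⟩ | ⟨c, rfl⟩
        · exact ⟨v, hv, f + algebraMap V A c • g, by rw [smul_add, smul_smul, map_mul]⟩
        · exact ⟨w, hw, algebraMap V A c • f + g, by rw [smul_add, smul_smul, map_mul]⟩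
      zero_mem' := ⟨0, p.zero_mem, 0, (smul_zero _).symm⟩
      smul_mem' := by
        rintro a _ ⟨v, hv, f, rfl⟩
        exact ⟨v, hv, a • f, smul_comm _ _ _⟩ }
  suffices h : p.map (algebraMap V A) • (⊤ : Submodule A F) ≤ T from h hz
  rw [Submodule.smul_le]
  intro r hr f _
  induction hr using Submodule.span_induction with
  | mem r hr => obtain ⟨v, hv, rfl⟩ := hr; exact ⟨v, hv, f, rfl⟩
  | zero => rw [zero_smul]; exact T.zero_mem
  | add a b _ _ ha hb => rw [add_smul]; exact T.add_mem ha hb
  | smul c a _ ha => rw [smul_assoc]; exact T.smul_mem c ha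

/-- The kernel of a surjection onto a torsion-free module commutes with reduction. -/
theorem ker_baseChange_injective (p : Ideal V) {F M : Type u} [AddCommGroup F] [Module A F]
    [AddCommGroup M] [Module A M] (π : F →ₗ[A] M)
    (hM : ∀ (c : V) (z : M), c ≠ 0 → algebraMap V A c • z = 0 → z = 0) :
    Function.Injective ((LinearMap.ker π).subtype.baseChange (A ⧸ p.map (algebraMap V A))) := by
  rw [injective_iff_map_eq_zero]
  intro z hz
  obtain ⟨k, rfl⟩ := TensorProduct.mk_surjective A _ (A ⧸ p.map (algebraMap V A))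
    Ideal.Quotient.mk_surjective z
  rw [TensorProduct.mk_apply, LinearMap.baseChange_tmul] at hz
  have hk : (k : F) ∈ p.map (algebraMap V A) • (⊤ : Submodule A F) := by
    have h := congrArg (TensorProduct.quotTensorEquivQuotSMul F (p.map (algebraMap V A))) hz
    rw [map_zero, ← map_one (Ideal.Quotient.mk _), TensorProduct.quotTensorEquivQuotSMul_mk_tmul,
      one_smul] at h
    exact (Submodule.Quotient.mk_eq_zero _).mp h
  obtain ⟨v, hv, f, hf⟩ := exists_smul_of_mem_map_smul_top p hk
  rw [TensorProduct.mk_apply]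
  by_cases hv0 : v = 0
  · rw [show k = 0 from Subtype.ext (by rw [hf, hv0, map_zero, zero_smul]; rfl), TensorProduct.tmul_zero]
  have hfk : f ∈ LinearMap.ker π := hM v (π f) hv0 (by rw [← map_smul, ← hf]; exact k.2)
  rw [show k = algebraMap V A v • (⟨f, hfk⟩ : LinearMap.ker π) from Subtype.ext hf,
    ← TensorProduct.smul_tmul, Algebra.smul_def,
    show algebraMap A (A ⧸ p.map (algebraMap V A)) (algebraMap V A v) = 0 from
      Ideal.Quotient.eq_zero_iff_mem.mpr (Ideal.mem_map_of_mem _ hv), zero_mul, TensorProduct.zero_tmul]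

variable [IsLocalRing A]

omit [IsDomain V] [ValuationRing V] [Algebra V A] in
theorem eq_bot_of_subsingleton_baseChange {I : Ideal A} (hI : I ≤ maximalIdeal A) {M : Type u} [AddCommGroup M]
    [Module A M] (N : Submodule A M) (hN : N.FG) (h : Subsingleton ((A ⧸ I) ⊗[A] N)) : N = ⊥ := by
  have : Subsingleton (N ⧸ (I • ⊤ : Submodule A N)) :=
    (TensorProduct.quotTensorEquivQuotSMul N I).symm.toEquiv.subsingleton
  have htop : (⊤ : Submodule A N) ≤ I • ⊤ :=
    top_le_iff.mpr (Submodule.Quotient.subsingleton_iff.mp this)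
  haveI : Module.Finite A N := Module.Finite.iff_fg.mpr hN
  have hbot := Submodule.eq_bot_of_le_smul_of_le_jacobson_bot I (⊤ : Submodule A N) Module.Finite.fg_top
    htop (hI.trans (maximalIdeal_le_jacobson _))
  rw [Submodule.eq_bot_iff]
  intro x hx
  exact congrArg Subtype.val ((Submodule.eq_bot_iff _).mp hbot (⟨x, hx⟩ : N) trivial)

/-- Projective dimension is detected on the fibre. -/
theorem pdLE_of_fibre (hA : SatFG V A) (hAtf : ∀ (c : V) (a : A), c ≠ 0 → algebraMap V A c * a = 0 → a = 0)
    (p : Ideal V) (hp : p.map (algebraMap V A) ≤ maximalIdeal A)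
    [IsNoetherianRing (A ⧸ p.map (algebraMap V A))] :
    ∀ (n : ℕ) (M : Type u) [AddCommGroup M] [Module A M] [Module.Finite A M],
      (∀ (c : V) (z : M), c ≠ 0 → algebraMap V A c • z = 0 → z = 0) →
      PdLE (A ⧸ p.map (algebraMap V A)) n ((A ⧸ p.map (algebraMap V A)) ⊗[A] M) → PdLE A n M := by
  classical
  set I := p.map (algebraMap V A)
  haveI : IsLocalRing (A ⧸ I) :=
    haveI : Nontrivial (A ⧸ I) := Ideal.Quotient.nontrivial_iff.mpr fun h =>
      (maximalIdeal.isMaximal A).ne_top (top_le_iff.mp (h ▸ hp))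
    IsLocalRing.of_surjective' _ Ideal.Quotient.mk_surjective
  intro n
  induction n with
  | zero =>
    intro M _ _ _ hM hpd
    haveI := pdLE_zero_iff.mp hpd
    haveI : Module.Free (A ⧸ I) ((A ⧸ I) ⊗[A] M) := Module.free_of_flat_of_isLocalRing
    let b := Module.Free.chooseBasis (A ⧸ I) ((A ⧸ I) ⊗[A] M)
    let e := Fintype.equivFin (Module.Free.ChooseBasisIndex (A ⧸ I) ((A ⧸ I) ⊗[A] M))
    choose m hm using fun i => TensorProduct.mk_surjective A M (A ⧸ I) Ideal.Quotient.mk_surjective (b i)
    let g : (Fin (Fintype.card (Module.Free.ChooseBasisIndex (A ⧸ I) ((A ⧸ I) ⊗[A] M))) → A) →ₗ[A] M :=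
      Fintype.linearCombination A fun j => m (e.symm j)
    have hgs : Function.Surjective g := by
      rw [← LinearMap.range_eq_top]
      haveI : Subsingleton ((A ⧸ I) ⊗[A] (M ⧸ LinearMap.range g)) := by
        refine subsingleton_of_forall_eq 0 fun z => ?_
        obtain ⟨w, rfl⟩ := LinearMap.lTensor_surjective (A ⧸ I) (Submodule.mkQ_surjective (LinearMap.range g)) z
        suffices h : LinearMap.baseChange (A ⧸ I) (LinearMap.range g).mkQ = 0 from
          (LinearMap.congr_fun h w)
        refine b.ext fun i => ?_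
        rw [← hm i, TensorProduct.mk_apply, LinearMap.baseChange_tmul, LinearMap.zero_apply,
          Submodule.mkQ_apply, (Submodule.Quotient.mk_eq_zero _).mpr, TensorProduct.tmul_zero]
        exact ⟨Pi.single (e i) 1, by simp [g, Fintype.linearCombination_apply_single]⟩
      have h := eq_bot_of_subsingleton_baseChange hp (⊤ : Submodule A (M ⧸ LinearMap.range g))
        Module.Finite.fg_top ((TensorProduct.congr (LinearEquiv.refl A (A ⧸ I))
          (Submodule.topEquiv)).toEquiv.subsingleton)
      have hs : Subsingleton (M ⧸ LinearMap.range g) :=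
        subsingleton_of_forall_eq 0 fun z => (Submodule.eq_bot_iff _).mp h z trivial
      exact Submodule.Quotient.subsingleton_iff.mp hs
    have hker : LinearMap.ker g = ⊥ := by
      refine eq_bot_of_subsingleton_baseChange hp _ (fg_ker_of_torsionFree hA g hM) ?_
      have hinj : Function.Injective (g.baseChange (A ⧸ I)) := by
        let b' := (Pi.basisFun A (Fin (Fintype.card (Module.Free.ChooseBasisIndex (A ⧸ I) ((A ⧸ I) ⊗[A] M))))).baseChange (A ⧸ I)
        have h : g.baseChange (A ⧸ I) = (b'.equiv b e.symm).toLinearMap := b'.ext fun j => by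
          rw [LinearEquiv.coe_coe, Module.Basis.equiv_apply, ← hm]
          simp [b', g, Fintype.linearCombination_apply_single]
        rw [h]
        exact (b'.equiv b e.symm).injective
      refine subsingleton_of_forall_eq 0 fun z => ker_baseChange_injective p g hM ?_
      refine hinj ?_
      rw [map_zero, map_zero, ← LinearMap.comp_apply, ← LinearMap.baseChange_comp,
        LinearMap.comp_ker_subtype, LinearMap.baseChange_zero, LinearMap.zero_apply]
    exact pdLE_of_equiv (LinearEquiv.ofBijective g ⟨LinearMap.ker_eq_bot.mp hker, hgs⟩)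
      (pdLE_of_projective 0)
  | succ n ih =>
    intro M _ _ _ hM hpd
    obtain ⟨k, π, hπ⟩ := Module.Finite.exists_fin' A M
    haveI : Module.Finite A (LinearMap.ker π) := Module.Finite.iff_fg.mpr (fg_ker_of_torsionFree hA π hM)
    rw [pdLE_succ_iff π hπ]
    refine ih _ (fun c z hc hcz => Subtype.ext (funext fun i => hAtf c _ hc
      (congrFun (congrArg Subtype.val hcz) i))) ?_
    have hs : Function.Surjective (π.baseChange (A ⧸ I)) := LinearMap.lTensor_surjective _ hπ
    have hex : Function.Exact ((LinearMap.ker π).subtype.baseChange (A ⧸ I)) (π.baseChange (A ⧸ I)) :=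
      lTensor_exact (A ⧸ I) (LinearMap.exact_subtype_ker_map π) hπ
    have hinj := ker_baseChange_injective p π hM
    let eK : ((A ⧸ I) ⊗[A] LinearMap.ker π) ≃ₗ[A ⧸ I] LinearMap.ker (π.baseChange (A ⧸ I)) :=
      LinearEquiv.ofBijective
        (((LinearMap.ker π).subtype.baseChange (A ⧸ I)).codRestrict _ fun x => hex.apply_apply_eq_zero x)
        ⟨fun x y h => hinj (congrArg Subtype.val h), fun z => by
          obtain ⟨x, hx⟩ := (hex z.1).mp z.2
          exact ⟨x, Subtype.ext hx⟩⟩
    exact pdLE_of_equiv eK.symm ((pdLE_succ_iff _ hs).mp hpd)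

/-- The three bounds. -/
theorem pdLE_of_regular (hA : SatFG V A) (hAtf : ∀ (c : V) (a : A), c ≠ 0 → algebraMap V A c * a = 0 → a = 0)
    (p : Ideal V) (hp : p.map (algebraMap V A) ≤ maximalIdeal A)
    (hreg : IsRegularLocalRing (A ⧸ p.map (algebraMap V A))) (n : ℕ)
    (hn : ringKrullDim (A ⧸ p.map (algebraMap V A)) = n) (M : Type u) [AddCommGroup M] [Module A M]
    [Module.Finite A M] (hM : ∀ (c : V) (z : M), c ≠ 0 → algebraMap V A c • z = 0 → z = 0) :
    PdLE A n M := by
  refine pdLE_of_fibre hA hAtf p hp n M hM ?_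
  have h := hreg.spanFinrank_maximalIdeal
  rw [hn] at h
  have h' : (maximalIdeal (A ⧸ p.map (algebraMap V A))).spanFinrank = n := by exact_mod_cast h
  exact h' ▸ pdLE_of_isRegularLocalRing _ _

theorem pdLE_succ_of_regular (hA : SatFG V A) (hAtf : ∀ (c : V) (a : A), c ≠ 0 → algebraMap V A c * a = 0 → a = 0)
    (p : Ideal V) (hp : p.map (algebraMap V A) ≤ maximalIdeal A)
    (hreg : IsRegularLocalRing (A ⧸ p.map (algebraMap V A))) (n : ℕ)
    (hn : ringKrullDim (A ⧸ p.map (algebraMap V A)) = n) (M : Type u) [AddCommGroup M] [Module A M]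
    [Module.FinitePresentation A M] : PdLE A (n + 1) M := by
  obtain ⟨k, π, hπ⟩ := Module.Finite.exists_fin' A M
  haveI : Module.Finite A (LinearMap.ker π) :=
    Module.Finite.iff_fg.mpr (Module.FinitePresentation.fg_ker π hπ)
  rw [pdLE_succ_iff π hπ]
  exact pdLE_of_regular hA hAtf p hp hreg n hn _ fun c z hc hcz =>
    Subtype.ext (funext fun i => hAtf c _ hc (congrFun (congrArg Subtype.val hcz) i))

theorem finite_dual (hA : SatFG V A) (hAtf : ∀ (c : V) (a : A), c ≠ 0 → algebraMap V A c * a = 0 → a = 0)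
    (M : Type u) [AddCommGroup M] [Module A M] [Module.Finite A M] :
    Module.Finite A (Module.Dual A M) := by
  -- the dual is finitely generated
  obtain ⟨a, π₀, hπ₀⟩ := Module.Finite.exists_fin' A M
  let d : Module.Dual A M →ₗ[A] (Fin a → A) :=
    LinearMap.pi fun i => LinearMap.applyₗ (π₀ (Pi.single i 1))
  have hd : Function.Injective d := by
    rw [injective_iff_map_eq_zero]
    intro φ hφ
    refine LinearMap.ext fun x => ?_
    obtain ⟨y, rfl⟩ := hπ₀ x
    rw [LinearMap.zero_apply, pi_eq_sum_univ' y]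
    simp only [map_sum, map_smul]
    exact Finset.sum_eq_zero fun i _ => by
      rw [show φ (π₀ (Pi.single i 1)) = 0 from congrFun hφ i, smul_zero]
  have hdfg : (LinearMap.range d).FG := by
    refine hA a _ fun c v hc hcv => ?_
    obtain ⟨φ, hφ⟩ := hcv
    let lv : (Fin a → A) →ₗ[A] A := Fintype.linearCombination A v
    have hlv : LinearMap.ker π₀ ≤ LinearMap.ker lv := fun y hy => by
      have h2 : algebraMap V A c * lv y = φ (π₀ y) := by
        conv_rhs => rw [pi_eq_sum_univ' y]
        simp only [lv, Fintype.linearCombination_apply, map_sum, map_smul, Finset.mul_sum, smul_eq_mul]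
        refine Finset.sum_congr rfl fun i _ => ?_
        rw [show φ (π₀ (Pi.single i 1)) = c • v i from congrFun hφ i, Algebra.smul_def]
        ring
      rw [LinearMap.mem_ker.mp hy, map_zero] at h2
      exact hAtf c _ hc h2
    refine ⟨(LinearMap.ker π₀).liftQ lv hlv ∘ₗ (π₀.quotKerEquivOfSurjective hπ₀).symm.toLinearMap,
      funext fun i => ?_⟩
    show (LinearMap.ker π₀).liftQ lv hlv ((π₀.quotKerEquivOfSurjective hπ₀).symm (π₀ (Pi.single i 1))) = v i
    rw [show (π₀.quotKerEquivOfSurjective hπ₀).symm (π₀ (Pi.single i 1)) = Submodule.Quotient.mk (Pi.single i 1) from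
      (LinearEquiv.symm_apply_eq _).2 rfl, Submodule.liftQ_apply]
    simp [lv, Fintype.linearCombination_apply_single]
  haveI : Module.Finite A (LinearMap.range d) := Module.Finite.iff_fg.mpr hdfg
  exact Module.Finite.equiv (LinearEquiv.ofInjective d hd).symm


theorem exists_secondSyzygy (hA : SatFG V A) (hAtf : ∀ (c : V) (a : A), c ≠ 0 → algebraMap V A c * a = 0 → a = 0)
    (M : Type u) [AddCommGroup M] [Module A M] [Module.Finite A M] [Module.IsReflexive A M] :
    ∃ (b c : ℕ) (f : Module.Dual A (Fin b → A) →ₗ[A] Module.Dual A (Fin c → A)),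
      Nonempty (M ≃ₗ[A] LinearMap.ker f) := by
  haveI := finite_dual hA hAtf M
  -- a presentation of the dual
  obtain ⟨b, π, hπ⟩ := Module.Finite.exists_fin' A (Module.Dual A M)
  have hker : (LinearMap.ker π).FG := fg_ker_of_torsionFree hA π fun c φ hc hcφ =>
    LinearMap.ext fun x => hAtf c _ hc (LinearMap.congr_fun hcφ x)
  haveI : Module.Finite A (LinearMap.ker π) := Module.Finite.iff_fg.mpr hker
  obtain ⟨c, κ, hκ⟩ := Module.Finite.exists_fin' A (LinearMap.ker π)
  let σ : (Fin c → A) →ₗ[A] (Fin b → A) := (LinearMap.ker π).subtype ∘ₗ κ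
  let ι : M →ₗ[A] Module.Dual A (Fin b → A) := π.dualMap ∘ₗ (Module.evalEquiv A M).toLinearMap
  have hι : Function.Injective ι :=
    (LinearMap.dualMap_injective_of_surjective hπ).comp (Module.evalEquiv A M).injective
  have hrange : LinearMap.range ι = LinearMap.ker σ.dualMap := by
    ext ψ
    constructor
    · rintro ⟨x, rfl⟩
      refine LinearMap.mem_ker.mpr (LinearMap.ext fun w => ?_)
      show (Module.evalEquiv A M x) (π (κ w : Fin b → A)) = 0
      rw [LinearMap.mem_ker.mp (κ w).2, map_zero]
    · intro hψ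
      have hle : LinearMap.ker π ≤ LinearMap.ker ψ := fun z hz => by
        obtain ⟨w, hw⟩ := hκ ⟨z, hz⟩
        have h := LinearMap.congr_fun (LinearMap.mem_ker.mp hψ) w
        simpa [σ, hw] using h
      refine ⟨(Module.evalEquiv A M).symm ((LinearMap.ker π).liftQ ψ hle ∘ₗ
        (π.quotKerEquivOfSurjective hπ).symm.toLinearMap), ?_⟩
      refine LinearMap.ext fun z => ?_
      show (Module.evalEquiv A M ((Module.evalEquiv A M).symm _)) (π z) = ψ z
      rw [LinearEquiv.apply_symm_apply, LinearMap.comp_apply, LinearEquiv.coe_coe,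
        show (π.quotKerEquivOfSurjective hπ).symm (π z) = Submodule.Quotient.mk z from
          (LinearEquiv.symm_apply_eq _).2 rfl, Submodule.liftQ_apply]
  exact ⟨b, c, σ.dualMap, ⟨(LinearEquiv.ofInjective ι hι).trans (LinearEquiv.ofEq _ _ hrange)⟩⟩

theorem pdLE_pred_ker {R : Type u} [CommRing R] {P Q : Type u} [AddCommGroup P] [Module R P]
    [AddCommGroup Q] [Module R Q] [Module.Projective R P] [Module.Projective R Q] (f : P →ₗ[R] Q) {n : ℕ}
    (h : PdLE R (n + 1) (Q ⧸ LinearMap.range f)) : PdLE R (n - 1) (LinearMap.ker f) := by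
  have hrg : PdLE R n (LinearMap.range f) :=
    pdLE_of_equiv (LinearEquiv.ofEq _ _ (Submodule.ker_mkQ _))
      (pdLE_ker _ (Submodule.mkQ_surjective _) h (pdLE_of_projective n))
  have hk : PdLE R (n - 1) (LinearMap.ker f.rangeRestrict) :=
    pdLE_ker _ (LinearMap.surjective_rangeRestrict _) (pdLE_mono (by omega) hrg) (pdLE_of_projective _)
  exact pdLE_of_equiv (LinearEquiv.ofEq _ _ (LinearMap.ker_rangeRestrict _)) hk

theorem finitePresentation_quotient_range {R : Type u} [CommRing R] {P Q : Type u} [AddCommGroup P]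
    [Module R P] [AddCommGroup Q] [Module R Q] [Module.Finite R P] [Module.FinitePresentation R Q]
    (f : P →ₗ[R] Q) : Module.FinitePresentation R (Q ⧸ LinearMap.range f) :=
  Module.finitePresentation_of_surjective _ (Submodule.mkQ_surjective _)
    (by rw [Submodule.ker_mkQ]; exact Module.Finite.iff_fg.mp inferInstance)

theorem pdLE_pred_of_regular (hA : SatFG V A) (hAtf : ∀ (c : V) (a : A), c ≠ 0 → algebraMap V A c * a = 0 → a = 0)
    (p : Ideal V) (hp : p.map (algebraMap V A) ≤ maximalIdeal A)
    (hreg : IsRegularLocalRing (A ⧸ p.map (algebraMap V A))) (n : ℕ)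
    (hn : ringKrullDim (A ⧸ p.map (algebraMap V A)) = n) (M : Type u) [AddCommGroup M] [Module A M]
    [Module.Finite A M] [Module.IsReflexive A M] : PdLE A (n - 1) M := by
  obtain ⟨b, c, f, ⟨e⟩⟩ := exists_secondSyzygy hA hAtf M
  haveI : Module.FinitePresentation A (Module.Dual A (Fin c → A)) :=
    Module.finitePresentation_of_projective A _
  haveI := finitePresentation_quotient_range f
  exact pdLE_of_equiv e.symm (pdLE_pred_ker f (pdLE_succ_of_regular hA hAtf p hp hreg n hn _))

end Groth.Agent.ValRegFib
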