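import Groth.Agent.ValRegFib.Basic

/-!
# The hypotheses of `Basic` for local rings of flat finitely presented algebras
-/

set_option autoImplicit false
set_option linter.style.haveILetI false

universe u

namespace Groth.Agent.ValRegFib

variable {V : Type u} [CommRing V] [IsDomain V] [ValuationRing V]
  {B : Type u} [CommRing B] [Algebra V B] (q : Ideal B) [q.IsPrime]

theorem satFG_localization [Algebra.FiniteType V B] : SatFG V (Localization.AtPrime q) := by
  classical
  obtain ⟨n, f, hf⟩ := Algebra.FiniteType.iff_quotient_mvPolynomial''.mp ‹Algebra.FiniteType V B›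
  refine satFG_of_polynomial ((IsScalarTower.toAlgHom V B (Localization.AtPrime q)).comp f)
    fun m x => ?_
  obtain ⟨b, hb⟩ := IsLocalization.exist_integer_multiples_of_finite q.primeCompl x
  refine ⟨algebraMap B _ b, IsLocalization.map_units _ b, fun i => ?_⟩
  obtain ⟨c, hc⟩ := hb i
  obtain ⟨g, hg⟩ := hf c
  refine ⟨g, ?_⟩
  rw [Algebra.smul_def] at hc
  show algebraMap B (Localization.AtPrime q) (f g) = _
  rw [hg, hc]

theorem torsionFree_localization [Module.Flat V B] (c : V) (a : Localization.AtPrime q) (hc : c ≠ 0)
    (h : algebraMap V (Localization.AtPrime q) c * a = 0) : a = 0 := by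
  have : Module.Flat V (Localization.AtPrime q) := Module.Flat.trans V B (Localization.AtPrime q)
  have := Module.Flat.isSMulRegular_of_nonZeroDivisors (M := Localization.AtPrime q)
    (mem_nonZeroDivisors_of_ne_zero hc)
  refine this ?_
  show c • a = c • (0 : Localization.AtPrime q)
  rw [smul_zero, Algebra.smul_def, h]

theorem map_comap_le : (q.comap (algebraMap V B)).map (algebraMap V (Localization.AtPrime q)) ≤
    IsLocalRing.maximalIdeal (Localization.AtPrime q) := by
  rw [IsScalarTower.algebraMap_eq V B (Localization.AtPrime q), ← Ideal.map_map,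
    ← Localization.AtPrime.map_eq_maximalIdeal]
  exact Ideal.map_mono Ideal.map_comap_le

end Groth.Agent.ValRegFib
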